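import Groth.Agent.H10Coh.OpenSS.Semistable
import Groth.Agent.H10Coh.Stab.Simple
import Groth.Agent.H22Alg.HilbertFlat
import Groth.Prelude.Def_W4c2simpsonmod1HP

/-!
# The semistable and stable loci at rational points
-/

set_option autoImplicit false
set_option linter.style.haveILetI false
set_option backward.isDefEq.respectTransparency.types false

noncomputable section

universe u

open CategoryTheory CategoryTheory.Limits AlgebraicGeometry Polynomial StabCat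
open Groth.Agent Groth.Agent.H22Alg Groth.Agent.H10Coh.Stab
open Groth.Agent.H17.QuotSch (str cI)

namespace Groth.Agent.H10Coh.OpenSS

attribute [local instance] fibOver

variable {k : Type u} [Field k] [IsAlgClosed k] {n : ℕ} {S X : Scheme.{u}}
  (i : X ⟶ CohB1.ProjSpaceOver n S) (sS : S ⟶ Spec (CommRingCat.of k))

omit [IsAlgClosed k] in
/-- Data of a rational point: the residue field of its image is the ground field. -/
theorem exists_point_lift [IsClosedImmersion i] {t : Spec (CommRingCat.of k) ⟶ S} (ht : t ≫ sS = 𝟙 _)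
    {Xt : Scheme.{u}} [Xt.Over (Spec (CommRingCat.of k))] {q : Xt ⟶ X}
    (sq : IsPullback q (Xt ↘ Spec (CommRingCat.of k)) (str i) t) {s : S} (hst : s ∈ Set.range t.base)
    {K : Type u} [Field K] {t' : Spec (CommRingCat.of K) ⟶ S} {Xt' : Scheme.{u}}
    [Xt'.Over (Spec (CommRingCat.of K))] {q' : Xt' ⟶ X}
    (sq' : IsPullback q' (Xt' ↘ Spec (CommRingCat.of K)) (str i) t') (hst' : s ∈ Set.range t'.base) :
    ∃ (_ : Algebra k K) (r : Xt' ⟶ Xt), r ≫ q = q' ∧
      IsPullback r (Xt' ↘ Spec (CommRingCat.of K)) (Xt ↘ Spec (CommRingCat.of k))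
        (Spec.map (CommRingCat.ofHom (algebraMap k K))) := by
  obtain ⟨⟨x, φ⟩, rfl⟩ := (Scheme.SpecToEquivOfField k S).symm.surjective t
  obtain rfl : s = x := by
    obtain ⟨z, rfl⟩ := hst
    simp [Scheme.SpecToEquivOfField_symm_apply]
  obtain ⟨ψ₀, hψ₀⟩ : ∃ ψ : CommRingCat.of k ⟶ S.residueField s, ψ ≫ φ = 𝟙 _ := by
    refine ⟨Spec.preimage (S.fromSpecResidueField s ≫ sS), Spec.map_injective ?_⟩
    rw [Spec.map_comp, Spec.map_preimage, Spec.map_id]
    exact (Category.assoc _ _ _).symm.trans ht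
  have hφψ : φ ≫ ψ₀ = 𝟙 _ := by
    refine CommRingCat.hom_ext (RingHom.ext fun a => φ.hom.injective ?_)
    exact RingHom.congr_fun (congrArg CommRingCat.Hom.hom hψ₀) (φ.hom a)
  haveI : IsIso φ := ⟨ψ₀, hφψ, hψ₀⟩
  obtain ⟨⟨y, φ'⟩, rfl⟩ := (Scheme.SpecToEquivOfField K S).symm.surjective t'
  obtain rfl : s = y := by
    obtain ⟨z, rfl⟩ := hst'
    simp [Scheme.SpecToEquivOfField_symm_apply]
  letI : Algebra k K := (inv φ ≫ φ').hom.toAlgebra
  have hmap : Spec.map (CommRingCat.ofHom (algebraMap k K)) ≫ Spec.map φ ≫ S.fromSpecResidueField s =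
      Spec.map φ' ≫ S.fromSpecResidueField s := by
    rw [← Category.assoc, ← Spec.map_comp]
    exact congrArg (fun g => Spec.map g ≫ S.fromSpecResidueField s) (IsIso.hom_inv_id_assoc φ φ')
  have sq'' : IsPullback q' (Xt' ↘ Spec (CommRingCat.of K)) (str i)
      (Spec.map φ' ≫ S.fromSpecResidueField s) := sq'
  have sqt : IsPullback q (Xt ↘ Spec (CommRingCat.of k)) (str i)
      (Spec.map φ ≫ S.fromSpecResidueField s) := sq
  have hc : q' ≫ str i = ((Xt' ↘ Spec (CommRingCat.of K)) ≫ Spec.map (CommRingCat.ofHom (algebraMap k K))) ≫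
      (Spec.map φ ≫ S.fromSpecResidueField s) := by
    rw [Category.assoc, hmap]; exact sq''.w
  let r := sqt.lift q' _ hc
  have h1 : r ≫ q = q' := sqt.lift_fst _ _ _
  refine ⟨inferInstance, r, h1, IsPullback.of_right ?_ (sqt.lift_snd _ _ _) sqt⟩
  rw [h1, hmap]
  exact sq''

variable [IsClosedImmersion i] [IsNoetherian S] {E : X.Modules}

/-- The criterion: an open set of points detecting a property of the fibre at rational points. -/
theorem exists_open_locus (hE : Coh.IsCoh E) (hfl : FlatMod.IsFlatOver (str i) E) (d : ℕ)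
    (Bad : ℚ[X] → ℚ[X] → Prop)
    (hBad : ∀ P φ, Bad P φ → alpha d φ ≤ alpha d P ∧ φ.coeff (d - 1) ≤ |P.coeff (d - 1)| + alpha d P)
    (Good : ∀ (Xt : Scheme.{u}) [Xt.Over (Spec (CommRingCat.of k))], Xt.Modules → Xt.Modules → Prop)
    (h1 : ∀ (Xt : Scheme.{u}) [Xt.Over (Spec (CommRingCat.of k))] [IsProper (Xt ↘ Spec (CommRingCat.of k))]
      (L G : Xt.Modules) (P : ℚ[X]), CohB1.IsAmple L → Coh.IsCoh G →
      topologicalKrullDim (CohB1.support G) = (d : WithBot ℕ∞) → ShStab.IsHilbPoly k Xt L G P → ¬ Good Xt L G →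
      ∃ (Q : Xt.Modules) (π : G ⟶ Q) (φ : ℚ[X]), Epi π ∧ Coh.IsCoh Q ∧ ShStab.IsPure Xt Q d ∧
        topologicalKrullDim (CohB1.support Q) ≤ (d : WithBot ℕ∞) ∧ ShStab.IsHilbPoly k Xt L Q φ ∧ Bad P φ)
    (h2 : ∀ (Xt : Scheme.{u}) [Xt.Over (Spec (CommRingCat.of k))] [IsProper (Xt ↘ Spec (CommRingCat.of k))]
      (L G : Xt.Modules) (P : ℚ[X]), CohB1.IsAmple L → Coh.IsCoh G → ShStab.IsHilbPoly k Xt L G P → Good Xt L G →
      ∀ (K : Type u) [Field K] [Algebra k K] (X' : Scheme.{u}) [X'.Over (Spec (CommRingCat.of K))] (r : X' ⟶ Xt),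
        IsPullback r (X' ↘ Spec (CommRingCat.of K)) (Xt ↘ Spec (CommRingCat.of k))
          (Spec.map (CommRingCat.ofHom (algebraMap k K))) →
        ∀ (Q : X'.Modules) (π : (Scheme.Modules.pullback r).obj G ⟶ Q) (φ : ℚ[X]), Epi π → Coh.IsCoh Q →
          ShStab.IsHilbPoly K X' ((Scheme.Modules.pullback r).obj L) Q φ → ¬ Bad P φ) :
    ∃ U : S.Opens, ∀ (t : Spec (CommRingCat.of k) ⟶ S), t ≫ sS = 𝟙 _ → ∀ (Xt : Scheme.{u})
      [Xt.Over (Spec (CommRingCat.of k))] (q : Xt ⟶ X),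
      IsPullback q (Xt ↘ Spec (CommRingCat.of k)) (str i) t →
      topologicalKrullDim (CohB1.support ((Scheme.Modules.pullback q).obj E)) = (d : WithBot ℕ∞) →
      (Good Xt (Otw i q 1) ((Scheme.Modules.pullback q).obj E) ↔ Set.range t.base ⊆ (U : Set S)) := by
  choose Z hZc hin hout using fun P : ℚ[X] =>
    exists_closed i hE d (Bad P) (alpha d P) (|P.coeff (d - 1)| + alpha d P) (hBad P)
  let L₁ : X.Modules := (Scheme.Modules.pullback i).obj (Twist.twistOver n S 1)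
  have hL₁ : PicF.IsInvertible L₁ := H11Ample.isInvertible_pullback _ (RegSheaf.isInvertible_twistOver _)
  haveI : IsProper (str i) := by
    haveI := H27Weil.isProper_toBase n S
    infer_instance
  let piece : ℚ[X] → Set S := fun P => {s | ShStab.IsHilbPoly (S.residueField s) ((str i).fiber s)
    (CohIII.fiberMod (str i) L₁ s) (CohIII.fiberMod (str i) E s) P}
  have hconv : ∀ (s : S) (m : ℕ),
      HilbertFlat.fibEuler (str i) (CohB1.tensorMod E (CohB1.tensorPow L₁ m)) s =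
        Curv2.euler (S.residueField s) ((str i).fiber s) (ShStab.twist ((str i).fiber s)
          (CohIII.fiberMod (str i) L₁ s) (CohIII.fiberMod (str i) E s) m) := fun s m => by
    obtain ⟨eP⟩ := H11Ample.exists_iso_pullback_tensorPow ((str i).fiberι s) hL₁ m
    exact H25Euler.euler_congr (H25Theta.pT ((str i).fiberι s) E (CohB1.tensorPow L₁ m) ≪≫
      PicGrp.tensorModIso (Iso.refl _) eP)
  have hopen : ∀ P, IsOpen (piece P) := fun P => isOpen_iff_forall_mem_open.2 fun s hs => by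
    obtain ⟨V, hsV, hV⟩ := HilbertFlat.exists_nhd_fibEuler_eq (str i) hL₁ hE hfl s
    refine ⟨V, fun s' hs' m => ?_, V.2, hsV⟩
    rw [← hconv, hV s' hs' m, hconv]
    exact hs m
  refine ⟨⟨⋃ P, piece P ∩ (Z P)ᶜ, isOpen_iUnion fun P => (hopen P).inter (hZc P).isOpen_compl⟩,
    fun t ht Xt _ q sq hdim => ?_⟩
  haveI := isProper_fibre i t sq
  have hA := isAmple_fibre i t sq
  have hc : Coh.IsCoh ((Scheme.Modules.pullback q).obj E) := H17.ConsProp.isCoh_pullback q hE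
  obtain ⟨P, hP⟩ := H25Euler.exists_hilbPoly (k := k) hA hc (lt_succ_of_dim_eq hdim)
  let z : Spec (CommRingCat.of k) := IsLocalRing.closedPoint k
  have hrange : Set.range t.base = {t.base z} := by
    ext x
    refine ⟨?_, fun h => ⟨z, h.symm⟩⟩
    rintro ⟨y, rfl⟩
    exact congrArg t.base (Subsingleton.elim (α := PrimeSpectrum k) y z)
  set s := t.base z
  obtain ⟨_, r, hrq, hr⟩ := exists_lift (str i) s sq ⟨z, rfl⟩
  obtain ⟨hps, hAs⟩ := fibre_ample i (L := L₁) (Iso.refl L₁) s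
  haveI := hps
  have hEs : Coh.IsCoh (CohIII.fiberMod (str i) E s) := H17.ConsProp.isCoh_pullback _ hE
  haveI := Stab.isNoetherian_of_ample (Z := (str i).fiber s) (S.residueField s) hAs
  obtain ⟨m, hm⟩ := StabBC.exists_dim_lt (S.residueField s) ((str i).fiber s)
  obtain ⟨P', hP'⟩ := H25Euler.exists_hilbPoly (k := S.residueField s) hAs hEs
    ((topologicalKrullDim_subspace_le _ _).trans_lt hm)
  have hP'' := StabBC.hilbPoly_pullback hr hAs hEs hP'
  obtain rfl : P = P' := H25Euler.hilbPoly_unique hP (H25Euler.hilbPoly_congr (cI r _ hrq E)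
    (StabBC.hilbPoly_congrL (cI r _ hrq L₁) hP''))
  have hpieces : ∀ Q, s ∈ piece Q → Q = P := fun Q hQ => H25Euler.hilbPoly_unique hQ hP'
  have hU : Set.range t.base ⊆ (⋃ P, piece P ∩ (Z P)ᶜ) ↔ s ∉ Z P := by
    rw [hrange, Set.singleton_subset_iff, Set.mem_iUnion]
    exact ⟨fun ⟨Q, hQ, hQZ⟩ => hpieces Q hQ ▸ hQZ, fun h => ⟨P, hP', h⟩⟩
  rw [show (Set.range t.base ⊆ ((⟨⋃ P, piece P ∩ (Z P)ᶜ, _⟩ : S.Opens) : Set S)) ↔ _ from hU]
  refine ⟨fun hg hs => ?_, fun hs => by_contra fun hg => hs ?_⟩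
  · obtain ⟨φ, hb, K, _, t', Xt', _, q', sq', hst', Q, π, hπ, hQ, hφ⟩ := hout P s hs
    obtain ⟨_, r', hr', hsq'⟩ := exists_point_lift i sS ht sq ⟨z, rfl⟩ sq' hst'
    haveI := hπ
    exact h2 Xt _ _ P hA hc hP hg K Xt' r' hsq' Q ((cI r' q hr' E).hom ≫ π) φ (epi_comp _ _) hQ
      (StabBC.hilbPoly_congrL (cI r' q hr' _).symm hφ) hb
  · obtain ⟨Q, π, φ, hπ, hQ, hQp, hQd, hφ, hb⟩ := h1 Xt _ _ P hA hc hdim hP hg
    exact hin P k t Xt q sq Q π hπ hQ hQp hQd φ hφ hb ⟨z, rfl⟩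

theorem exists_open_semistable (hE : Coh.IsCoh E) (hfl : FlatMod.IsFlatOver (str i) E) (d : ℕ) :
    ∃ U : S.Opens, ∀ (t : Spec (CommRingCat.of k) ⟶ S), t ≫ sS = 𝟙 _ → ∀ (Xt : Scheme.{u})
      [Xt.Over (Spec (CommRingCat.of k))] (q : Xt ⟶ X),
      IsPullback q (Xt ↘ Spec (CommRingCat.of k)) (str i) t →
      topologicalKrullDim (CohB1.support ((Scheme.Modules.pullback q).obj E)) = (d : WithBot ℕ∞) →
      (ShStab.IsSemistable k Xt (Otw i q 1) ((Scheme.Modules.pullback q).obj E) d ↔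
        Set.range t.base ⊆ (U : Set S)) :=
  exists_open_locus i sS hE hfl d
    (fun P φ => 0 < alpha d φ ∧ alpha d φ ≤ alpha d P ∧ φ.coeff (d - 1) ≤ |P.coeff (d - 1)| + alpha d P ∧
      ¬ RedLE d P φ) (fun _ _ h => ⟨h.2.1, h.2.2.1⟩) (fun Xt _ L G => ShStab.IsSemistable k Xt L G d)
    (fun Xt _ _ L G P hA hc hdim hP hn => exists_quot_of_not_semistable hA hc hdim hP hn)
    (fun Xt _ _ L G P hA hc hP hss K _ _ X' _ r hr Q π φ hπ hQ hφ hb => by
      haveI := StabBC.isProper_pullback hr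
      have hA' := StabBC.isAmple_pullback hr hA
      have hP' := StabBC.hilbPoly_pullback hr hA hc hP
      have hE' := StabBC.isSemistable_pullback hr hA hss
      haveI := hπ
      refine hb.2.2.2 ?_
      by_cases hi : IsIso π
      · rw [H25Euler.hilbPoly_unique hφ (H25Euler.hilbPoly_congr (@asIso _ _ _ _ π hi) hP')]
        exact redLE_of_redEq (redEq_refl _ _)
      · have ht := (tfae_semistable (k := K) hA' hE'.1 hE'.2.1 hE'.2.2.1).out 0 2
        exact ht.1 hE' Q π hπ hQ hi P φ hP' hφ hb.1)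

theorem exists_open_stable (hE : Coh.IsCoh E) (hfl : FlatMod.IsFlatOver (str i) E) (d : ℕ) :
    ∃ U : S.Opens, ∀ (t : Spec (CommRingCat.of k) ⟶ S), t ≫ sS = 𝟙 _ → ∀ (Xt : Scheme.{u})
      [Xt.Over (Spec (CommRingCat.of k))] (q : Xt ⟶ X),
      IsPullback q (Xt ↘ Spec (CommRingCat.of k)) (str i) t →
      topologicalKrullDim (CohB1.support ((Scheme.Modules.pullback q).obj E)) = (d : WithBot ℕ∞) →
      (ShStab.IsStable k Xt (Otw i q 1) ((Scheme.Modules.pullback q).obj E) d ↔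
        Set.range t.base ⊆ (U : Set S)) :=
  exists_open_locus i sS hE hfl d
    (fun P φ => 0 < alpha d φ ∧ alpha d φ ≤ alpha d P ∧ φ.coeff (d - 1) ≤ |P.coeff (d - 1)| + alpha d P ∧
      φ ≠ P ∧ ¬ RedLT d P φ) (fun _ _ h => ⟨h.2.1, h.2.2.1⟩) (fun Xt _ L G => ShStab.IsStable k Xt L G d)
    (fun Xt _ _ L G P hA hc hdim hP hn => exists_quot_of_not_stable hA hc hdim hP hn)
    (fun Xt _ _ L G P hA hc hP hst K _ _ X' _ r hr Q π φ hπ hQ hφ hb => by
      haveI := StabBC.isProper_pullback hr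
      have hA' := StabBC.isAmple_pullback hr hA
      have hP' := StabBC.hilbPoly_pullback hr hA hc hP
      have hE' := StabBC.isStable_pullback hr hA hst (simple_of_isStable hA hst)
      haveI := hπ
      by_cases hi : IsIso π
      · exact hb.2.2.2.1 (H25Euler.hilbPoly_unique hφ (H25Euler.hilbPoly_congr (@asIso _ _ _ _ π hi) hP'))
      · have ht := (tfae_stable (k := K) hA' hE'.1 hE'.2.1 hE'.2.2.1).out 0 2
        exact hb.2.2.2.2 (ht.1 hE' Q π hπ hQ hi P φ hP' hφ hb.1))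

omit [IsAlgClosed k] in
/-- The all-integer reduced comparison is the reduced comparison. -/
theorem redLE_W_iff {d : ℕ} {ψ φ : ℚ[X]} (hψ : 0 < alpha d ψ) (hφ : 0 < alpha d φ) :
    (W4c2simpsonmod1.RedLE d ψ φ ↔ StabCat.RedLE d ψ φ) ∧
      (W4c2simpsonmod1.RedLT d ψ φ ↔ StabCat.RedLT d ψ φ) := by
  have e : ∀ x : ℚ, (alpha d φ • ψ).eval x = alpha d φ * ψ.eval x ∧
      (alpha d ψ • φ).eval x = alpha d ψ * φ.eval x := fun x => by simp
  refine ⟨⟨fun ⟨N, hN⟩ => ⟨N.toNat, fun m hm => ?_⟩, fun ⟨N, hN⟩ => ⟨N, fun m hm => ?_⟩⟩,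
    ⟨fun ⟨N, hN⟩ => ⟨N.toNat, fun m hm => ?_⟩, fun ⟨N, hN⟩ => ⟨N, fun m hm => ?_⟩⟩⟩
  · have h := hN (m : ℤ) (by omega)
    rw [show W4c2simpsonmod1.rankOf d ψ = alpha d ψ from rfl,
      show W4c2simpsonmod1.rankOf d φ = alpha d φ from rfl, div_le_div_iff₀ hψ hφ] at h
    rw [(e _).1, (e _).2]
    push_cast at h
    linarith
  · obtain ⟨j, rfl⟩ : ∃ j : ℕ, m = j := ⟨m.toNat, (Int.toNat_of_nonneg (by omega)).symm⟩
    have h := hN j (by omega)
    rw [show W4c2simpsonmod1.rankOf d ψ = alpha d ψ from rfl,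
      show W4c2simpsonmod1.rankOf d φ = alpha d φ from rfl, div_le_div_iff₀ hψ hφ]
    rw [(e _).1, (e _).2] at h
    push_cast
    linarith
  · have h := hN (m : ℤ) (by omega)
    rw [show W4c2simpsonmod1.rankOf d ψ = alpha d ψ from rfl,
      show W4c2simpsonmod1.rankOf d φ = alpha d φ from rfl, div_lt_div_iff₀ hψ hφ] at h
    rw [(e _).1, (e _).2]
    push_cast at h
    linarith
  · obtain ⟨j, rfl⟩ : ∃ j : ℕ, m = j := ⟨m.toNat, (Int.toNat_of_nonneg (by omega)).symm⟩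
    have h := hN j (by omega)
    rw [show W4c2simpsonmod1.rankOf d ψ = alpha d ψ from rfl,
      show W4c2simpsonmod1.rankOf d φ = alpha d φ from rfl, div_lt_div_iff₀ hψ hφ]
    rw [(e _).1, (e _).2] at h
    push_cast
    linarith

end Groth.Agent.H10Coh.OpenSS

namespace Groth.Agent.H10Coh.OpenSS

attribute [local instance] fibOver

variable {k : Type u} [Field k] {n : ℕ} {S X : Scheme.{u}} (i : X ⟶ CohB1.ProjSpaceOver n S) [IsClosedImmersion i]
  {t : Spec (CommRingCat.of k) ⟶ S} {Xt : Scheme.{u}} [Xt.Over (Spec (CommRingCat.of k))] {q : Xt ⟶ X}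
  (sq : IsPullback q (Xt ↘ Spec (CommRingCat.of k)) (str i) t) {G : Xt.Modules} (hG : Coh.IsCoh G) {ψ : ℚ[X]}

include sq hG in
/-- Hilbert polynomials on all integers. -/
theorem int_hilb_iff :
    (∀ m : ℤ, (Curv2.euler k Xt (CohB1.tensorMod G
      ((Scheme.Modules.pullback (q ≫ i)).obj (Twist.twistOver n S m))) : ℚ) = ψ.eval (m : ℚ)) ↔
      ShStab.IsHilbPoly k Xt (Otw i q 1) G ψ := by
  obtain ⟨jt, hjt, hj, he⟩ := exists_embed i t sq
  haveI := hjt
  haveI := isProper_fibre i t sq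
  have hfam : H10Coh.Stab.IsTwistFamily fun m => (Scheme.Modules.pullback jt).obj (Twist.twistProjSpace n k m) :=
    (H10Coh.Stab.isTwistFamily_projSpace n k).pullback jt
  obtain ⟨e1⟩ := he 1
  have key : ∀ m : ℕ, Nonempty (CohB1.tensorMod G ((Scheme.Modules.pullback (q ≫ i)).obj (Twist.twistOver n S m)) ≅
      ShStab.twist Xt (Otw i q 1) G m) := fun m => by
    obtain ⟨em⟩ := he m
    obtain ⟨ep⟩ := hfam.nonempty_tensorPow m
    exact ⟨PicGrp.tensorModIso (Iso.refl G) (((Scheme.Modules.pullbackComp q i).app _).symm ≪≫ em ≪≫ ep.symm ≪≫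
      (H10Coh.Tw.tensorPowIso e1 m).symm)⟩
  refine ⟨fun h m => ?_, fun h m => ?_⟩
  · obtain ⟨e⟩ := key m
    rw [← H25Euler.euler_congr e]
    exact (h m).trans (by norm_num)
  · obtain ⟨em⟩ := he m
    rw [← MumfordQuot.euler_transfer jt hj e1 hG h m]
    have hi := (H10Coh.Stab.isTwistFamily_projSpace n k).inv m
    obtain ⟨ep⟩ := H10Coh.Tw.nonempty_push_tensor_iso jt G hi
    haveI : (CohB1.tensorMod G ((Scheme.Modules.pullback jt).obj (Twist.twistProjSpace n k m))).IsQuasicoherent :=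
      (H11Ample.isCoh_tensor hG (hfam.inv m)).1
    rw [H25Euler.euler_congr ep, H28Int.Push.euler_push k jt hj]
    exact congrArg (fun z : ℤ => (z : ℚ)) (H25Euler.euler_congr
      (PicGrp.tensorModIso (Iso.refl G) (((Scheme.Modules.pullbackComp q i).app _).symm ≪≫ em)))

omit hG in
include sq in
/-- The semistability conditions at a point in the all-integer form. -/
theorem cond_iff {d : ℕ} (hGc : Coh.IsCoh G)
    (hdim : topologicalKrullDim (CohB1.support G) = (d : WithBot ℕ∞)) (hp : ShStab.IsPure Xt G d) :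
    ((∀ (F : Xt.Modules) (ι : F ⟶ G), Mono ι → Coh.IsCoh F → ¬ IsZero F → ∀ φ χ : ℚ[X],
      (∀ m : ℤ, (Curv2.euler k Xt (CohB1.tensorMod G
        ((Scheme.Modules.pullback (q ≫ i)).obj (Twist.twistOver n S m))) : ℚ) = φ.eval (m : ℚ)) →
      (∀ m : ℤ, (Curv2.euler k Xt (CohB1.tensorMod F
        ((Scheme.Modules.pullback (q ≫ i)).obj (Twist.twistOver n S m))) : ℚ) = χ.eval (m : ℚ)) →
      W4c2simpsonmod1.RedLE d χ φ) ↔ ShStab.IsSemistable k Xt (Otw i q 1) G d) ∧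
    ((∀ (F : Xt.Modules) (ι : F ⟶ G), Mono ι → Coh.IsCoh F → ¬ IsZero F → ¬ IsIso ι → ∀ φ χ : ℚ[X],
      (∀ m : ℤ, (Curv2.euler k Xt (CohB1.tensorMod G
        ((Scheme.Modules.pullback (q ≫ i)).obj (Twist.twistOver n S m))) : ℚ) = φ.eval (m : ℚ)) →
      (∀ m : ℤ, (Curv2.euler k Xt (CohB1.tensorMod F
        ((Scheme.Modules.pullback (q ≫ i)).obj (Twist.twistOver n S m))) : ℚ) = χ.eval (m : ℚ)) →
      W4c2simpsonmod1.RedLT d χ φ) ↔ ShStab.IsStable k Xt (Otw i q 1) G d) := by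
  haveI := isProper_fibre i t sq
  have hA := isAmple_fibre i t sq
  have h0 : ¬ IsZero G := fun h => (H25Euler.dim_support_of_isZero h d).ne hdim
  have hpos : ∀ (F : Xt.Modules) (ι : F ⟶ G), Mono ι → Coh.IsCoh F → ¬ IsZero F → ∀ χ,
      ShStab.IsHilbPoly k Xt (Otw i q 1) F χ → 0 < alpha d χ := fun F ι hι hF hF0 χ hχ => by
    haveI := hι
    exact alpha_pos_of_pure hA (isPure_of_mono hp ι) hF hF0 hχ
  refine ⟨⟨fun h => ⟨hGc, h0, hp, fun F ι hι hF hF0 _ pF pG hpF hpG => ?_⟩, fun h F ι hι hF hF0 φ χ hφ hχ => ?_⟩,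
    ⟨fun h => ⟨hGc, h0, hp, fun F ι hι hF hF0 hi pF pG hpF hpG => ?_⟩, fun h F ι hι hF hF0 hi φ χ hφ hχ => ?_⟩⟩
  · exact (redLE_W_iff (hpos F ι hι hF hF0 pF hpF) (alpha_pos hA hGc hdim hpG)).1.1
      (h F ι hι hF hF0 pG pF ((int_hilb_iff i sq hGc).2 hpG) ((int_hilb_iff i sq hF).2 hpF))
  · have hφ' := (int_hilb_iff i sq hGc).1 hφ
    have hχ' := (int_hilb_iff i sq hF).1 hχ
    refine (redLE_W_iff (hpos F ι hι hF hF0 χ hχ') (alpha_pos hA hGc hdim hφ')).1.2 ?_
    haveI := hι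
    by_cases hi : IsIso ι
    · rw [H25Euler.hilbPoly_unique hχ' (H25Euler.hilbPoly_congr (@asIso _ _ _ _ ι hi).symm hφ')]
      exact redLE_of_redEq (redEq_refl _ _)
    · exact h.2.2.2 F ι hι hF hF0 hi χ φ hχ' hφ'
  · exact (redLE_W_iff (hpos F ι hι hF hF0 pF hpF) (alpha_pos hA hGc hdim hpG)).2.1
      (h F ι hι hF hF0 hi pG pF ((int_hilb_iff i sq hGc).2 hpG) ((int_hilb_iff i sq hF).2 hpF))
  · have hφ' := (int_hilb_iff i sq hGc).1 hφ
    have hχ' := (int_hilb_iff i sq hF).1 hχ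
    exact (redLE_W_iff (hpos F ι hι hF hF0 χ hχ') (alpha_pos hA hGc hdim hφ')).2.2
      (h.2.2.2 F ι hι hF hF0 hi χ φ hχ' hφ')

end Groth.Agent.H10Coh.OpenSS
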