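import Groth.Agent.H10Coh.OpenSS.Ell

/-!
# The case of a product with a projective variety
-/

set_option autoImplicit false
set_option linter.style.haveILetI false
set_option backward.isDefEq.respectTransparency.types false

noncomputable section

universe u

open CategoryTheory CategoryTheory.Limits AlgebraicGeometry Polynomial
open Groth.Agent Groth.Agent.H22Alg
open Groth.Agent.H17.QuotSch (str cI iT aT)

namespace Groth.Agent.H10Coh.OpenSS

variable {k : Type u} [Field k] {X : Scheme.{u}} {N : ℕ}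

/-- A closed subscheme of projective space over a field as a closed subscheme over the base `Spec k`. -/
theorem exists_over (ι : X ⟶ CohB1.ProjSpace N k) [IsClosedImmersion ι] :
    ∃ i₀ : X ⟶ CohB1.ProjSpaceOver N (Spec (CommRingCat.of k)), IsClosedImmersion i₀ ∧
      str i₀ = ι ≫ CohB1.ProjSpace.toSpec N k ∧
      Nonempty ((Scheme.Modules.pullback ι).obj (Twist.twistProjSpace N k 1) ≅
        (Scheme.Modules.pullback i₀).obj (Twist.twistOver N (Spec (CommRingCat.of k)) 1)) := by
  obtain ⟨a, ha, ha₁, ⟨σ⟩⟩ := PB.exists_affine_iso N k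
  haveI := ha
  refine ⟨ι ≫ a, inferInstance, ?_, ⟨(Scheme.Modules.pullback ι).mapIso σ.symm ≪≫ cI ι a rfl _⟩⟩
  exact (Category.assoc _ _ _).trans (congrArg (ι ≫ ·) ha₁)

/-- The family `X ×_k S → S` in projective space. -/
theorem exists_family (i₀ : X ⟶ CohB1.ProjSpaceOver N (Spec (CommRingCat.of k))) [IsClosedImmersion i₀]
    {S : Scheme.{u}} (q : S ⟶ Spec (CommRingCat.of k)) {L₀ : X.Modules}
    (e : L₀ ≅ (Scheme.Modules.pullback i₀).obj (Twist.twistOver N (Spec (CommRingCat.of k)) 1)) :
    ∃ i : pullback (str i₀) q ⟶ CohB1.ProjSpaceOver N S, IsClosedImmersion i ∧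
      str i = pullback.snd (str i₀) q ∧
      Nonempty ((Scheme.Modules.pullback (pullback.fst (str i₀) q)).obj L₀ ≅
        (Scheme.Modules.pullback i).obj (Twist.twistOver N S 1)) := by
  let T : Over (Spec (CommRingCat.of k)) := Over.mk q
  obtain ⟨eT⟩ := H17.QuotSch.nonempty_Om_iT i₀ T 1
  exact ⟨iT i₀ T, MorphismProperty.of_isPullback (H17.QuotSch.isPullback_iT i₀ T).flip inferInstance,
    H17.QuotSch.iT_pr i₀ T, ⟨(Scheme.Modules.pullback (aT i₀ T)).mapIso e ≪≫ eT.symm⟩⟩

theorem isNoetherian_base {S : Scheme.{u}} (q : S ⟶ Spec (CommRingCat.of k)) [LocallyOfFiniteType q]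
    [CompactSpace S] : IsNoetherian S := by
  haveI : IsLocallyNoetherian S := LocallyOfFiniteType.isLocallyNoetherian q
  exact {}

end Groth.Agent.H10Coh.OpenSS
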