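import Groth.Agent.H10Coh.OpenSS.Complex
import Mathlib.AlgebraicGeometry.AlgClosed.Basic

/-!
# Quotients at rational points
-/

set_option autoImplicit false
set_option linter.style.haveILetI false
set_option backward.isDefEq.respectTransparency.types false

noncomputable section

universe u

open CategoryTheory CategoryTheory.Limits AlgebraicGeometry Polynomial StabCat
open Groth.Agent Groth.Agent.H22Alg Groth.Agent.H10Coh.Stab
open Groth.Agent.H25Theta (pT)
open Groth.Agent.H17.QuotSch (str cI aT pX Om Eul hv)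

namespace Groth.Agent.H10Coh.OpenSS

variable {n : ℕ} {S X : Scheme.{u}} (i : X ⟶ CohB1.ProjSpaceOver n S) [IsClosedImmersion i]

/-- The Hilbert function of a module on the fibre at a field point, read on `X_T`. -/
theorem hv_of_hilbPoly {K : Type u} [Field K] {t : Spec (CommRingCat.of K) ⟶ S} {Xt : Scheme.{u}}
    [Xt.Over (Spec (CommRingCat.of K))] {q : Xt ⟶ X}
    (sq : IsPullback q (Xt ↘ Spec (CommRingCat.of K)) (str i) t) {G : Xt.Modules} (hG : Coh.IsCoh G) {φ : ℚ[X]}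
    (hφ : ShStab.IsHilbPoly K Xt (Otw i q 1) G φ) (t' : Spec (CommRingCat.of K)) (m : ℕ) :
    (hv i (Over.mk t) ((Scheme.Modules.pullback sq.isoPullback.inv).obj G) t' m : ℚ) = φ.eval (m : ℚ) := by
  let T : Over S := Over.mk t
  let e : Xt ≅ PicF.XT (str i) T := sq.isoPullback
  have he : e.inv ≫ q = aT i T := sq.isoPullback_inv_fst
  have he' : e.inv ≫ (Xt ↘ Spec (CommRingCat.of K)) = pX i T := sq.isoPullback_inv_snd
  let κ := T.left.residueField t'
  letI : Algebra K κ := (Spec.preimage (T.left.fromSpecResidueField t')).hom.toAlgebra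
  have halg : Spec.map (CommRingCat.ofHom (algebraMap K κ)) = T.left.fromSpecResidueField t' :=
    Spec.map_preimage _
  letI : ((pX i T).fiber t').Over (Spec (CommRingCat.of κ)) := ⟨(pX i T).fiberToSpecResidueField t'⟩
  let q' := (pX i T).fiberι t' ≫ e.inv
  have hsq : IsPullback q' ((pX i T).fiber t' ↘ Spec (CommRingCat.of κ)) (Xt ↘ Spec (CommRingCat.of K))
      (Spec.map (CommRingCat.ofHom (algebraMap K κ))) := by
    rw [halg]
    have hb : IsPullback e.inv (pX i T) (Xt ↘ Spec (CommRingCat.of K)) (𝟙 T.left) :=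
      IsPullback.of_horiz_isIso ⟨he'.trans (Category.comp_id _).symm⟩
    have hp := (IsPullback.of_hasPullback (pX i T) (T.left.fromSpecResidueField t')).paste_horiz hb
    rwa [Category.comp_id] at hp
  haveI := isProper_fibre i t sq
  have hκ := StabBC.hilbPoly_pullback hsq (isAmple_fibre i t sq) hG hφ m
  refine Eq.trans ?_ hκ
  obtain ⟨eO⟩ := H17.QuotSch.nonempty_pow_Om i T m
  obtain ⟨eP⟩ := H11Ample.exists_iso_pullback_tensorPow ((pX i T).fiberι t') (H17.QuotSch.isInvertible_Om i T 1) m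
  refine congrArg (fun z : ℤ => (z : ℚ)) (H25Euler.euler_congr (k := κ) ?_)
  exact pT ((pX i T).fiberι t') ((Scheme.Modules.pullback e.inv).obj G) (Om i T m) ≪≫ PicGrp.tensorModIso
    (cI ((pX i T).fiberι t') e.inv rfl G)
    ((Scheme.Modules.pullback _).mapIso eO.symm ≪≫ eP ≪≫ H10Coh.Tw.tensorPowIso
      ((Scheme.Modules.pullback ((pX i T).fiberι t')).mapIso (cI e.inv q he _).symm ≪≫
        cI ((pX i T).fiberι t') e.inv rfl _) m)

/-- A module on `X_{T₀}` and its restriction to a field point. -/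
theorem hv_eq_of_point {K : Type u} [Field K] {t : Spec (CommRingCat.of K) ⟶ S} {Xt : Scheme.{u}}
    [Xt.Over (Spec (CommRingCat.of K))] {q : Xt ⟶ X}
    (sq : IsPullback q (Xt ↘ Spec (CommRingCat.of K)) (str i) t) (T₀ : Over S) [IsLocallyNoetherian S]
    [IsLocallyNoetherian T₀.left] (g : Over.mk t ⟶ T₀) {F₀ : (PicF.XT (str i) T₀).Modules} (hF₀ : Coh.IsCoh F₀)
    {G : Xt.Modules} (hG : Coh.IsCoh G)
    (eG : (Scheme.Modules.pullback sq.isoPullback.inv).obj G ≅
      (Scheme.Modules.pullback (PicF.XTmap (str i) g)).obj F₀) {φ : ℚ[X]}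
    (hφ : ShStab.IsHilbPoly K Xt (Otw i q 1) G φ) (z : Spec (CommRingCat.of K)) (m : ℕ) :
    (hv i T₀ F₀ (g.left z) m : ℚ) = φ.eval (m : ℚ) := by
  have h1 : hv i (Over.mk t) ((Scheme.Modules.pullback sq.isoPullback.inv).obj G) z = hv i T₀ F₀ (g.left z) :=
    (H17.QuotSch.hv_congr i (T := Over.mk t) eG z).trans (H17.QuotSch.hv_pullback i g hF₀ z)
  have h2 := hv_of_hilbPoly i sq hG hφ z m
  rw [h1] at h2
  exact h2

variable {k : Type u} [Field k] [IsAlgClosed k] (sS : S ⟶ Spec (CommRingCat.of k)) [LocallyOfFiniteType sS]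
  [IsNoetherian S] {E : X.Modules}

/-- At a rational point a quotient at some field point gives one at the point itself. -/
theorem exists_quot_rational (hE : Coh.IsCoh E) {t : Spec (CommRingCat.of k) ⟶ S} (ht : t ≫ sS = 𝟙 _)
    {Xt : Scheme.{u}} [Xt.Over (Spec (CommRingCat.of k))] {q : Xt ⟶ X}
    (sq : IsPullback q (Xt ↘ Spec (CommRingCat.of k)) (str i) t) {φ : ℚ[X]}
    (h : HasQuot i E φ (t.base (IsLocalRing.closedPoint k))) :
    ∃ (G : Xt.Modules) (π : (Scheme.Modules.pullback q).obj E ⟶ G),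
      Epi π ∧ Coh.IsCoh G ∧ ShStab.IsHilbPoly k Xt (Otw i q 1) G φ := by
  obtain ⟨f, hf⟩ : ∃ f : ℤ → ℤ, ∀ m : ℤ, (f m : ℚ) = φ.eval (m : ℚ) := by
    obtain ⟨K, _, t₀, X₀, _, q₀, sq₀, -, G₀, π₀, -, hG₀, hφ₀⟩ := h
    exact exists_int_of_hilbPoly sq₀ hG₀ hφ₀
  obtain ⟨Q, K₀, hQn, hEul, hu, hprop⟩ := H17.QuotSch.exists_fixed_proper i hE φ hf
  haveI := hprop
  haveI := hQn
  haveI : CompactSpace Q.left := QuasiCompact.compactSpace_of_compactSpace Q.hom
  let T : Over S := Over.mk t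
  let z : Spec (CommRingCat.of k) := IsLocalRing.closedPoint k
  have hs : IsClosed ({t.base z} : Set S) := ((pointEquivClosedPoint sS) ⟨t, ht⟩).2
  obtain ⟨x₀, hx₀⟩ := mem_range_of_hasQuot hf hu h
  obtain ⟨x, hxs, hxc⟩ := (hs.preimage Q.hom.continuous).exists_closed_singleton ⟨x₀, hx₀⟩
  let p : Spec (CommRingCat.of k) ⟶ Q.left := pointOfClosedPoint (Q.hom ≫ sS) x hxc
  have hp : p ≫ Q.hom = t := by
    refine ext_of_apply_closedPoint_eq sS ?_ ht ?_
    · rw [Category.assoc]; exact pointOfClosedPoint_comp _ _ _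
    · show Q.hom.base (p.base _) = _
      rw [show p.base z = x from pointOfClosedPoint_apply _ _ _ _]
      exact hxs
  let g : T ⟶ Q := Over.homMk p hp
  let e : Xt ≅ PicF.XT (str i) T := sq.isoPullback
  have he : e.hom ≫ aT i T = q := sq.isoPullback_hom_fst
  haveI : (Scheme.Modules.pullback e.hom).IsLeftAdjoint :=
    (Scheme.Modules.pullbackPushforwardAdjunction e.hom).isLeftAdjoint
  haveI : IsLocallyNoetherian T.left := inferInstanceAs (IsLocallyNoetherian (Spec (CommRingCat.of k)))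
  let GT := (Scheme.Modules.pullback (PicF.XTmap (str i) g)).obj (cokernel K₀.1.arrow)
  let πT : FGA.ET (str i) E T ⟶ GT := H24Quot.pullQ (str i) E g (cokernel.π K₀.1.arrow)
  haveI : Epi πT := H24Quot.epi_pullQ (str i) E g (cokernel.π K₀.1.arrow)
  have hGT : Coh.IsCoh GT := H17.ConsProp.isCoh_pullback _ K₀.2.1
  let G := (Scheme.Modules.pullback e.hom).obj GT
  have hG : Coh.IsCoh G := H17.ConsProp.isCoh_pullback _ hGT
  haveI : Epi ((Scheme.Modules.pullback e.hom).map πT) := inferInstance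
  refine ⟨G, (cI e.hom (aT i T) he E).inv ≫ (Scheme.Modules.pullback e.hom).map πT, epi_comp _ _, hG, ?_⟩
  haveI := isProper_fibre i t sq
  have hA := isAmple_fibre i t sq
  haveI := Stab.isNoetherian_of_ample (Z := Xt) k hA
  obtain ⟨m₀, hm₀⟩ := StabBC.exists_dim_lt k Xt
  obtain ⟨φ₀, hφ₀⟩ := H25Euler.exists_hilbPoly (k := k) hA hG ((topologicalKrullDim_subspace_le _ _).trans_lt hm₀)
  intro m
  have eG : (Scheme.Modules.pullback sq.isoPullback.inv).obj G ≅ GT :=
    cI e.inv e.hom e.inv_hom_id GT ≪≫ (Scheme.Modules.pullbackId _).app GT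
  have h3 := hv_eq_of_point i sq Q g K₀.2.1 hG eG hφ₀ z m
  have h4 : hv i Q (cokernel K₀.1.arrow) (g.left z) (m : ℤ) = f (m : ℤ) := hEul (g.left z) (m : ℤ)
  rw [h4] at h3
  exact (hφ₀ m).trans (h3.symm.trans ((hf (m : ℤ)).trans (by norm_num)))

/-- An open set detecting, at rational points, the absence of bad quotients. -/
theorem exists_open_noBad (hE : Coh.IsCoh E) (hfl : FlatMod.IsFlatOver (str i) E) (d : ℕ)
    (Bad : ℚ[X] → ℚ[X] → Prop)
    (hBad : ∀ P φ, Bad P φ → alpha d φ ≤ alpha d P ∧ φ.coeff (d - 1) ≤ |P.coeff (d - 1)| + alpha d P)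
    (Good : ∀ (Xt : Scheme.{u}) [Xt.Over (Spec (CommRingCat.of k))], Xt.Modules → Xt.Modules → Prop)
    (h1 : ∀ (Xt : Scheme.{u}) [Xt.Over (Spec (CommRingCat.of k))] [IsProper (Xt ↘ Spec (CommRingCat.of k))]
      (L G : Xt.Modules) (P : ℚ[X]), CohB1.IsAmple L → Coh.IsCoh G →
      topologicalKrullDim (CohB1.support G) = (d : WithBot ℕ∞) → ShStab.IsHilbPoly k Xt L G P → ¬ Good Xt L G →
      ∃ (Q : Xt.Modules) (π : G ⟶ Q) (φ : ℚ[X]), Epi π ∧ Coh.IsCoh Q ∧ ShStab.IsPure Xt Q d ∧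
        topologicalKrullDim (CohB1.support Q) ≤ (d : WithBot ℕ∞) ∧ ShStab.IsHilbPoly k Xt L Q φ ∧ Bad P φ)
    (h2 : ∀ (Xt : Scheme.{u}) [Xt.Over (Spec (CommRingCat.of k))] [IsProper (Xt ↘ Spec (CommRingCat.of k))]
      (L G : Xt.Modules) (P : ℚ[X]), CohB1.IsAmple L → Coh.IsCoh G → ShStab.IsHilbPoly k Xt L G P → Good Xt L G →
      ∀ (Q : Xt.Modules) (π : G ⟶ Q) (φ : ℚ[X]), Epi π → Coh.IsCoh Q → ShStab.IsHilbPoly k Xt L Q φ → ¬ Bad P φ) :
    ∃ U : S.Opens, ∀ (t : Spec (CommRingCat.of k) ⟶ S), t ≫ sS = 𝟙 _ → ∀ (Xt : Scheme.{u})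
      [Xt.Over (Spec (CommRingCat.of k))] (q : Xt ⟶ X),
      IsPullback q (Xt ↘ Spec (CommRingCat.of k)) (str i) t →
      topologicalKrullDim (CohB1.support ((Scheme.Modules.pullback q).obj E)) = (d : WithBot ℕ∞) →
      (Good Xt (Otw i q 1) ((Scheme.Modules.pullback q).obj E) ↔ Set.range t.base ⊆ (U : Set S)) := by
  choose Z hZc hin hout using fun P : ℚ[X] =>
    exists_closed i hE d (Bad P) (alpha d P) (|P.coeff (d - 1)| + alpha d P) (hBad P)
  haveI : IsProper (str i) := by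
    haveI := H27Weil.isProper_toBase n S
    infer_instance
  let T₀ : Over S := Over.mk (𝟙 S)
  haveI : IsLocallyNoetherian T₀.left := inferInstanceAs (IsLocallyNoetherian S)
  let E₀ : (PicF.XT (str i) T₀).Modules := (Scheme.Modules.pullback (aT i T₀)).obj E
  have hE₀ : Coh.IsCoh E₀ := H17.ConsProp.isCoh_pullback _ hE
  have hE₀f : FlatMod.IsFlatOver (pX i T₀) E₀ :=
    H16Derived.BaseChange.isFlatOver_pullback (IsPullback.of_hasPullback (str i) T₀.hom) hfl
  let piece : ℚ[X] → Set T₀.left := fun P => {s | ∀ m : ℕ, (hv i T₀ E₀ s m : ℚ) = P.eval (m : ℚ)}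
  have hopen : ∀ P, IsOpen (piece P) := fun P => isOpen_iff_forall_mem_open.2 fun s hs => by
    obtain ⟨V, hsV, hV⟩ := HilbertFlat.exists_nhd_fibEuler_eq (pX i T₀) (H17.QuotSch.isInvertible_Om i T₀ 1) hE₀ hE₀f s
    refine ⟨V, fun s' hs' m => ?_, V.2, hsV⟩
    obtain ⟨e⟩ := H17.QuotSch.nonempty_pow_Om i T₀ m
    have h := hV s' hs' m
    rw [PnHilbert.fibEuler_congr _ (PicGrp.tensorModIso (Iso.refl E₀) e) s',
      PnHilbert.fibEuler_congr _ (PicGrp.tensorModIso (Iso.refl E₀) e) s] at h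
    exact (congrArg (fun z : ℤ => (z : ℚ)) h).trans (hs m)
  refine ⟨⟨⋃ P, piece P ∩ (Z P)ᶜ, isOpen_iUnion fun P => (hopen P).inter (hZc P).isOpen_compl⟩,
    fun t ht Xt _ q sq hdim => ?_⟩
  haveI := isProper_fibre i t sq
  have hA := isAmple_fibre i t sq
  have hc : Coh.IsCoh ((Scheme.Modules.pullback q).obj E) := H17.ConsProp.isCoh_pullback q hE
  obtain ⟨P, hP⟩ := H25Euler.exists_hilbPoly (k := k) hA hc (lt_succ_of_dim_eq hdim)
  let z : Spec (CommRingCat.of k) := IsLocalRing.closedPoint k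
  let T : Over S := Over.mk t
  haveI : IsLocallyNoetherian T.left := inferInstanceAs (IsLocallyNoetherian (Spec (CommRingCat.of k)))
  let g : T ⟶ T₀ := Over.homMk t (Category.comp_id t)
  have eE : (Scheme.Modules.pullback sq.isoPullback.inv).obj ((Scheme.Modules.pullback q).obj E) ≅
      (Scheme.Modules.pullback (PicF.XTmap (str i) g)).obj E₀ :=
    cI sq.isoPullback.inv q sq.isoPullback_inv_fst E ≪≫
      (cI (PicF.XTmap (str i) g) (aT i T₀) (FGA.XTmap_fst (str i) g) E).symm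
  have hPs : t.base z ∈ piece P := fun m => hv_eq_of_point i sq T₀ g hE₀ hc eE hP z m
  have hrange : Set.range t.base = {t.base z} := by
    ext x
    refine ⟨?_, fun h => ⟨z, h.symm⟩⟩
    rintro ⟨y, rfl⟩
    exact congrArg t.base (Subsingleton.elim (α := PrimeSpectrum k) y z)
  have hU : Set.range t.base ⊆ (⋃ P, piece P ∩ (Z P)ᶜ) ↔ t.base z ∉ Z P := by
    rw [hrange, Set.singleton_subset_iff, Set.mem_iUnion]
    refine ⟨fun ⟨P', hP', hPZ⟩ => ?_, fun h => ⟨P, hPs, h⟩⟩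
    have : P' = P := Polynomial.eq_of_infinite_eval_eq _ _ (Set.Infinite.mono (by
        rintro _ ⟨m, rfl⟩
        exact (hP' m).symm.trans (hPs m))
      (Set.infinite_range_of_injective (f := fun m : ℕ => (m : ℚ)) Nat.cast_injective))
    exact this ▸ hPZ
  rw [show (Set.range t.base ⊆ ((⟨⋃ P, piece P ∩ (Z P)ᶜ, _⟩ : S.Opens) : Set S)) ↔ _ from hU]
  refine ⟨fun hg hs => ?_, fun hs => by_contra fun hg => hs ?_⟩
  · obtain ⟨φ, hb, hq⟩ := hout P _ hs
    obtain ⟨G, π, hπ, hG, hφ⟩ := exists_quot_rational i sS hE ht sq hq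
    exact h2 Xt _ _ P hA hc hP hg G π φ hπ hG hφ hb
  · obtain ⟨Q, π, φ, hπ, hQ, hQp, hQd, hφ, hb⟩ := h1 Xt _ _ P hA hc hdim hP hg
    exact hin P k t Xt q sq Q π hπ hQ hQp hQd φ hφ hb ⟨z, rfl⟩

end Groth.Agent.H10Coh.OpenSS
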