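import Groth.Agent.H10Coh.OpenSS.Rational
import Groth.Agent.H10Coh.OpenSS.Ell

/-!
# The slope semistable and slope stable loci at rational points
-/

set_option autoImplicit false
set_option linter.style.haveILetI false
set_option backward.isDefEq.respectTransparency.types false

noncomputable section

universe u

open CategoryTheory CategoryTheory.Limits AlgebraicGeometry Polynomial StabCat
open Groth.Agent Groth.Agent.H10Coh.Stab
open Groth.Agent.H17.QuotSch (str)

namespace Groth.Agent.H10Coh.OpenSS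

section absolute

variable {k : Type u} [Field k] {Z : Scheme.{u}} [Z.Over (Spec (CommRingCat.of k))]
  [IsProper (Z ↘ Spec (CommRingCat.of k))]

/-- The slope condition, semistable (`strict = False`) and stable. -/
def SlopeSS (L E : Z.Modules) (d : ℕ) : Prop :=
  ∀ (F : Z.Modules) (ι : F ⟶ E), Mono ι → Coh.IsCoh F → ¬ IsZero F → ∀ φ ψ : ℚ[X],
    ShStab.IsHilbPoly k Z L E φ → ShStab.IsHilbPoly k Z L F ψ → hatSlope d ψ ≤ hatSlope d φ

/-- The strict slope condition. -/
def SlopeSt (L E : Z.Modules) (d : ℕ) : Prop :=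
  ∀ (F : Z.Modules) (ι : F ⟶ E), Mono ι → Coh.IsCoh F → ¬ IsZero F → ∀ φ ψ : ℚ[X],
    ShStab.IsHilbPoly k Z L E φ → ShStab.IsHilbPoly k Z L F ψ → alpha d ψ < alpha d φ →
      hatSlope d ψ < hatSlope d φ

variable {L E : Z.Modules} {d : ℕ} (hL : CohB1.IsAmple L) (hE : Coh.IsCoh E)
  (hdim : topologicalKrullDim (CohB1.support E) = (d : WithBot ℕ∞)) (hp : ShStab.IsPure Z E d)

include hL hE hdim hp

theorem slopeSS_iff (hd : 1 ≤ d) : SlopeSS (k := k) L E d ↔ ShStab.IsEllSemistable k Z L E d 1 := by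
  have h0 : ¬ IsZero E := fun h => (H25Euler.dim_support_of_isZero h d).ne hdim
  refine ⟨fun h => ⟨hE, h0, hp, fun F ι hι hF pF pE hpF hpE hpos hlt => ?_⟩, fun h F ι hι hF hF0 φ ψ hφ hψ => ?_⟩
  · exact redLE_iff.2 ((nonneg_ecross_one_iff hd hpos (alpha_pos hL hE hdim hpE)).1.2
      (h F ι hι hF (not_isZero_of_alpha_pos hpF hpos) pE pF hpE hpF))
  · haveI := hι
    exact (nonneg_ecross_one_iff hd (alpha_pos_of_pure hL (isPure_of_mono hp ι) hF hF0 hψ)
      (alpha_pos hL hE hdim hφ)).1.1 (nonneg_ecross_sub hL h hF ι hψ hφ)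

theorem slopeSt_iff (hd : 1 ≤ d) : SlopeSt (k := k) L E d ↔ ShStab.IsEllStable k Z L E d 1 := by
  have h0 : ¬ IsZero E := fun h => (H25Euler.dim_support_of_isZero h d).ne hdim
  refine ⟨fun h => ⟨hE, h0, hp, fun F ι hι hF pF pE hpF hpE hpos hlt => ?_⟩,
    fun h F ι hι hF hF0 φ ψ hφ hψ hlt => ?_⟩
  · exact redLT_iff.2 ((nonneg_ecross_one_iff hd hpos (alpha_pos hL hE hdim hpE)).2.2
      (h F ι hι hF (not_isZero_of_alpha_pos hpF hpos) pE pF hpE hpF hlt))
  · haveI := hι
    have hpos := alpha_pos_of_pure hL (isPure_of_mono hp ι) hF hF0 hψ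
    exact (nonneg_ecross_one_iff hd hpos (alpha_pos hL hE hdim hφ)).2.1
      (redLT_iff.1 (h.2.2.2 F ι hι hF ψ φ hψ hφ hpos hlt))

theorem slopeSS_zero (hd : d = 0) : SlopeSS (k := k) L E d := fun F ι hι hF hF0 φ ψ hφ hψ => by
  subst hd
  haveI := hι
  have h1 := alpha_pos_of_pure hL (isPure_of_mono hp ι) hF hF0 hψ
  have h2 := alpha_pos hL hE hdim hφ
  simp only [hatSlope]
  rw [div_self h1.ne', div_self h2.ne']

theorem slopeSt_zero_iff (hd : d = 0) : SlopeSt (k := k) L E d ↔ ShStab.IsStable k Z L E d := by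
  subst hd
  have h0 : ¬ IsZero E := fun h => (H25Euler.dim_support_of_isZero h 0).ne hdim
  refine ⟨fun h => ⟨hE, h0, hp, fun F ι hι hF hF0 hi pF pE hpF hpE => ?_⟩,
    fun h F ι hι hF hF0 φ ψ hφ hψ hlt => absurd (h.2.2.2 F ι hι hF hF0 ?_ ψ φ hψ hφ) ?_⟩
  · haveI := hι
    have h1 := alpha_pos_of_pure hL (isPure_of_mono hp ι) hF hF0 hpF
    have h2 := alpha_pos hL hE hdim hpE
    rcases (alpha_le_of_mono hL hp hE hF ι hpF hpE).lt_or_eq with hlt | heq
    · have h' := h F ι hι hF hF0 pE pF hpE hpF hlt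
      simp only [hatSlope] at h'
      rw [div_self h1.ne', div_self h2.ne'] at h'
      exact absurd h' (lt_irrefl _)
    · exact redLT_of_alpha_eq hL hE hF ι hi hpF hpE h1 heq
  · intro hi
    haveI := hi
    rw [H25Euler.hilbPoly_unique hψ (H25Euler.hilbPoly_congr (asIso ι).symm hφ)] at hlt
    exact lt_irrefl _ hlt
  · haveI := hι
    intro hr
    have hC : ∀ {P : ℚ[X]} {G : Z.Modules}, ShStab.IsPure Z G 0 → Coh.IsCoh G → ShStab.IsHilbPoly k Z L G P →
        P = C (P.coeff 0) := fun hG hGc hP => eq_C_of_natDegree_eq_zero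
      (Nat.le_zero.1 (natDegree_le_iff_coeff_eq_zero.2 fun j hj => coeff_above hL hG hGc hP j hj))
    have e1 := hC (isPure_of_mono hp ι) hF hψ
    have e2 := hC hp hE hφ
    have := redLT_iff.1 hr
    rw [e1, e2, cross, alpha, alpha, coeff_C_zero, coeff_C_zero, Nat.factorial_zero, Nat.cast_one, one_mul, one_mul,
      smul_C, smul_C, smul_eq_mul, smul_eq_mul, mul_comm, sub_self] at this
    exact not_pos_zero this

end absolute

variable {n : ℕ} {S X : Scheme.{u}} (i : X ⟶ CohB1.ProjSpaceOver n S) [IsClosedImmersion i]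
  {k : Type u} [Field k] [IsAlgClosed k] (sS : S ⟶ Spec (CommRingCat.of k)) [LocallyOfFiniteType sS]
  [IsNoetherian S] {E : X.Modules} (hE : Coh.IsCoh E) (hfl : FlatMod.IsFlatOver (str i) E) (d : ℕ)

include hE hfl

theorem exists_open_ell (N : ℚ[X] → Prop) (hN : ∀ a, Stab.Pos a → N a)
    (hadd : ∀ a b, N a → Nonneg b → N (a + b)) (hd : 1 ≤ d) :
    ∃ U : S.Opens, ∀ (t : Spec (CommRingCat.of k) ⟶ S), t ≫ sS = 𝟙 _ → ∀ (Xt : Scheme.{u})
      [Xt.Over (Spec (CommRingCat.of k))] (q : Xt ⟶ X),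
      IsPullback q (Xt ↘ Spec (CommRingCat.of k)) (str i) t →
      topologicalKrullDim (CohB1.support ((Scheme.Modules.pullback q).obj E)) = (d : WithBot ℕ∞) →
      (EllCond (K := k) N (Otw i q 1) ((Scheme.Modules.pullback q).obj E) d 1 ↔
        Set.range t.base ⊆ (U : Set S)) :=
  exists_open_noBad i sS hE hfl d (fun P φ => EllBad N d 1 P φ) (fun _ _ h => ⟨h.2.1, h.2.2.1⟩)
    (fun Xt _ L G => EllCond (K := k) N L G d 1)
    (fun _ _ _ _ _ _ hA hc hdim hP hn => exists_quot_of_not_ell N hN hadd le_rfl hd hA hc hdim hP hn)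
    (fun _ _ _ _ _ _ hA hc hP hg Q π _ hπ hQ hφ => by
      haveI := hπ
      exact not_ellBad N hA hc hP hg hQ π hφ)

theorem exists_open_slope :
    (∃ U : S.Opens, ∀ (t : Spec (CommRingCat.of k) ⟶ S), t ≫ sS = 𝟙 _ → ∀ (Xt : Scheme.{u})
      [Xt.Over (Spec (CommRingCat.of k))] (q : Xt ⟶ X),
      IsPullback q (Xt ↘ Spec (CommRingCat.of k)) (str i) t →
      topologicalKrullDim (CohB1.support ((Scheme.Modules.pullback q).obj E)) = (d : WithBot ℕ∞) →
      ShStab.IsPure Xt ((Scheme.Modules.pullback q).obj E) d →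
      (SlopeSS (k := k) (Otw i q 1) ((Scheme.Modules.pullback q).obj E) d ↔ Set.range t.base ⊆ (U : Set S))) ∧
    ∃ U' : S.Opens, ∀ (t : Spec (CommRingCat.of k) ⟶ S), t ≫ sS = 𝟙 _ → ∀ (Xt : Scheme.{u})
      [Xt.Over (Spec (CommRingCat.of k))] (q : Xt ⟶ X),
      IsPullback q (Xt ↘ Spec (CommRingCat.of k)) (str i) t →
      topologicalKrullDim (CohB1.support ((Scheme.Modules.pullback q).obj E)) = (d : WithBot ℕ∞) →
      ShStab.IsPure Xt ((Scheme.Modules.pullback q).obj E) d →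
      (SlopeSt (k := k) (Otw i q 1) ((Scheme.Modules.pullback q).obj E) d ↔ Set.range t.base ⊆ (U' : Set S)) := by
  rcases Nat.eq_zero_or_pos d with hd | hd
  · obtain ⟨U', hU'⟩ := exists_open_stable i sS hE hfl d
    refine ⟨⟨⊤, fun t ht Xt _ q sq hdim hp => ?_⟩, ⟨U', fun t ht Xt _ q sq hdim hp => ?_⟩⟩ <;>
      haveI := isProper_fibre i t sq
    · exact iff_of_true (slopeSS_zero (isAmple_fibre i t sq) (H17.ConsProp.isCoh_pullback q hE) hdim hp hd)
        (Set.subset_univ _)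
    · exact (slopeSt_zero_iff (isAmple_fibre i t sq) (H17.ConsProp.isCoh_pullback q hE) hdim hp hd).trans
        (hU' t ht Xt q sq hdim)
  · obtain ⟨U, hU⟩ := exists_open_ell i sS hE hfl d Nonneg (fun _ h => h.nonneg) (fun _ _ h h' => h.add h') hd
    obtain ⟨U', hU'⟩ := exists_open_ell i sS hE hfl d Stab.Pos (fun _ h => h) (fun _ _ h h' => h.add h') hd
    refine ⟨⟨U, fun t ht Xt _ q sq hdim hp => ?_⟩, ⟨U', fun t ht Xt _ q sq hdim hp => ?_⟩⟩ <;>
      haveI := isProper_fibre i t sq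
    · have hc : Coh.IsCoh ((Scheme.Modules.pullback q).obj E) := H17.ConsProp.isCoh_pullback q hE
      have h0 : ¬ IsZero ((Scheme.Modules.pullback q).obj E) := fun h => (H25Euler.dim_support_of_isZero h d).ne hdim
      exact (slopeSS_iff (isAmple_fibre i t sq) hc hdim hp hd).trans
        ((ellCond_semistable_iff hc h0).symm.trans (hU t ht Xt q sq hdim))
    · have hc : Coh.IsCoh ((Scheme.Modules.pullback q).obj E) := H17.ConsProp.isCoh_pullback q hE
      have h0 : ¬ IsZero ((Scheme.Modules.pullback q).obj E) := fun h => (H25Euler.dim_support_of_isZero h d).ne hdim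
      exact (slopeSt_iff (isAmple_fibre i t sq) hc hdim hp hd).trans
        ((ellCond_stable_iff hc h0).symm.trans (hU' t ht Xt q sq hdim))

end Groth.Agent.H10Coh.OpenSS
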